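import Groth.Prelude.Def_ModFun
import Groth.Agent.S11473
import Groth.Agent.GenusZeroDesc.Classify
import Groth.Agent.FreeCurve.Reparam
import Groth.Agent.Horrocks.Dim
import Groth.Agent.S10829
import Groth.Agent.ProjCech.Main
import Groth.Agent.TwistOverVan.Basic
import Groth.Agent.CycPB.BundleSmooth
import Groth.Agent.CycPB.DualFilt
import Groth.Agent.CurveRR.Euler

/-!
# Curves of genus zero: the line over any field, Artinian bases, morphisms agreeing on thickenings
-/

set_option autoImplicit false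
set_option linter.style.haveILetI false
universe u

open CategoryTheory CategoryTheory.Limits AlgebraicGeometry TopologicalSpace

noncomputable section

namespace Groth.Agent.ModM0

/-- Being a curve of genus `g` is stable under base change. -/
theorem isCurveOfGenus_bc {C C' T T' : Scheme.{u}} {f : C ⟶ T} {f' : C' ⟶ T'} {a : C' ⟶ C} {b : T' ⟶ T}
    (sq : IsPullback a f' f b) {g : ℕ} (h : ModFun.IsCurveOfGenus g f) : ModFun.IsCurveOfGenus g f' := by
  obtain ⟨hs, hp, hgi, hgeo⟩ := h
  exact ⟨MorphismProperty.of_isPullback (P := @Smooth) sq hs, MorphismProperty.of_isPullback (P := @IsProper) sq hp,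
    MorphismProperty.of_isPullback (P := @GeometricallyIrreducible) sq hgi,
    fun Ω _ _ t X i q H => hgeo Ω (t ≫ b) X _ q (H.paste_horiz sq)⟩

/-- A fibre product of the line over a field is the line. -/
theorem exists_iso_line {R K : Type u} [CommRing R] [CommRing K] (y : Spec (CommRingCat.of K) ⟶ Spec (CommRingCat.of R))
    {Y : Scheme.{u}} {i : Y ⟶ CohB1.ProjSpace 1 R} {q : Y ⟶ Spec (CommRingCat.of K)}
    (H : IsPullback i q (CohB1.ProjSpace.toSpec 1 R) y) :
    ∃ e : Y ≅ CohB1.ProjSpace 1 K, e.hom ≫ CohB1.ProjSpace.toSpec 1 K = q := by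
  letI : Algebra R K := (Spec.preimage y).hom.toAlgebra
  have hy : y = Spec.map (CommRingCat.ofHom (algebraMap R K)) := (Spec.map_preimage y).symm
  have H' := FreeCurve.isPullback_linMap (n := 1) R K
  rw [← hy] at H'
  exact ⟨H.isoIsPullback _ _ H', H.isoIsPullback_hom_snd _ _ H'⟩

theorem isCurveOfGenus_line (k : Type u) [Field k] :
    ModFun.IsCurveOfGenus 0 (CohB1.ProjSpace.toSpec 1 k) := by
  refine ⟨CycPB.smooth_toSpec 1 k, ProjMor.isProper_toSpec 1 k, ⟨fun K _ y Y fst snd H => ?_⟩,
    fun Ω _ _ t X i q H => ?_⟩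
  · obtain ⟨e, -⟩ := exists_iso_line y H
    haveI := Horrocks.isIntegral_projSpace (k := K) (n := 1)
    exact (Scheme.homeoOfIso e.symm).surjective.irreducibleSpace (Scheme.homeoOfIso e.symm).continuous
  · obtain ⟨e, he⟩ := exists_iso_line t H
    refine ⟨?_, ?_⟩
    · rw [IsHomeomorph.topologicalKrullDim_eq _ (Scheme.homeoOfIso e).isHomeomorph, S10829.result Ω 1]
      rfl
    · have hv := TwistOverVan.subsingleton_hh_pullback_iso e.hom (Coh.structureModule _)
        (QC.isQCoh_unit _) 1 (ProjCech.structureModule_vanish 1 Ω 1 one_pos)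
      obtain ⟨ε⟩ := CycPB.isIso_unitMap e.hom
      letI : X.Over (Spec (CommRingCat.of Ω)) := ⟨q⟩
      exact CurveRR.h_eq_zero (CohQC.hh_subsingleton_of_iso ε 1 hv)

/-- A family of curves of genus zero over an Artinian local ring with algebraically closed residue field
is the line. -/
theorem exists_iso_artinian {C : Type u} [CommRing C] [IsArtinianRing C] [IsLocalRing C]
    [IsAlgClosed (IsLocalRing.ResidueField C)] {X : Scheme.{u}} (f : X ⟶ Spec (CommRingCat.of C))
    (h : ModFun.IsCurveOfGenus 0 f) : ∃ e : X ≅ CohB1.ProjSpace 1 C, e.hom ≫ CohB1.ProjSpace.toSpec 1 C = f := by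
  have h' := isCurveOfGenus_bc (IsPullback.of_hasPullback f (Spec.map (CommRingCat.ofHom (IsLocalRing.residue C)))) h
  have hF := GenusZeroDesc.facts h'
  haveI := h.1
  haveI := h.2.1
  exact S11473.result C f hF.int hF.dim hF.genus

/-- Morphisms out of the spectrum of a Noetherian Jacobson ring agreeing on the thickenings of its closed
points agree. -/
theorem hom_ext_thickenings {B : Type u} [CommRing B] [IsNoetherianRing B] [IsJacobsonRing B] {N : Scheme.{u}}
    (a b : Spec (CommRingCat.of B) ⟶ N)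
    (h : ∀ (m : Ideal B) [m.IsMaximal] (n : ℕ), 1 ≤ n →
      Spec.map (CommRingCat.ofHom (Ideal.Quotient.mk (m ^ n))) ≫ a =
        Spec.map (CommRingCat.ofHom (Ideal.Quotient.mk (m ^ n))) ≫ b) : a = b := by
  have key : ∀ (m : Ideal B), m.IsMaximal → ∃ f : B, f ∉ m ∧
      Spec.map (CommRingCat.ofHom (algebraMap B (Localization.Away f))) ≫ a =
        Spec.map (CommRingCat.ofHom (algebraMap B (Localization.Away f))) ≫ b := by
    intro m hm
    let x : PrimeSpectrum B := ⟨m, hm.isPrime⟩
    have hxz : ∀ (m' : Ideal B) [m'.IsMaximal], a ⟨m', Ideal.IsMaximal.isPrime ‹_›⟩ = b ⟨m', Ideal.IsMaximal.isPrime ‹_›⟩ := by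
      intro m' _
      haveI : Nontrivial (B ⧸ m' ^ 1) := Ideal.Quotient.nontrivial_iff.mpr (by rw [pow_one]; exact Ideal.IsMaximal.ne_top ‹_›)
      obtain ⟨z⟩ : Nonempty (PrimeSpectrum (B ⧸ m' ^ 1)) := inferInstance
      have hz : PrimeSpectrum.comap (Ideal.Quotient.mk (m' ^ 1)) z = ⟨m', Ideal.IsMaximal.isPrime ‹_›⟩ := by
        refine PrimeSpectrum.ext (Eq.symm (Ideal.IsMaximal.eq_of_le ‹_› ?_ ?_))
        · exact (z.isPrime.comap _).ne_top
        · intro w hw
          show Ideal.Quotient.mk (m' ^ 1) w ∈ z.asIdeal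
          rw [Ideal.Quotient.eq_zero_iff_mem.mpr (by rwa [pow_one])]
          exact zero_mem _
      have := congrArg (fun q : Spec (CommRingCat.of (B ⧸ m' ^ 1)) ⟶ N => q z) (h m' 1 le_rfl)
      simp only [Scheme.Hom.comp_apply] at this
      exact (congrArg a hz).symm.trans (this.trans (congrArg b hz))
    obtain ⟨V, hV, hxV, -⟩ := exists_isAffineOpen_mem_and_subset (x := a x) (U := (⊤ : N.Opens)) trivial
    obtain ⟨_, ⟨f, rfl⟩, hxf, hfV⟩ := PrimeSpectrum.isTopologicalBasis_basic_opens.exists_subset_of_mem_open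
      (show x ∈ (↑(a ⁻¹ᵁ V ⊓ b ⁻¹ᵁ V) : Set ↥(Spec (CommRingCat.of B))) from
        ⟨hxV, show b x ∈ V by rw [← hxz m]; exact hxV⟩) (a ⁻¹ᵁ V ⊓ b ⁻¹ᵁ V).isOpen
    refine ⟨f, hxf, ?_⟩
    let ι := Spec.map (CommRingCat.ofHom (algebraMap B (Localization.Away f)))
    have hrange : ∀ z, ι z ∈ (a ⁻¹ᵁ V ⊓ b ⁻¹ᵁ V : (Spec (CommRingCat.of B)).Opens) := fun z =>
      hfV ((PrimeSpectrum.localization_away_comap_range (Localization.Away f) f).le ⟨z, rfl⟩)
    have h₁ : Set.range (ι ≫ a) ⊆ Set.range V.ι := by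
      rintro _ ⟨z, rfl⟩
      rw [Scheme.Opens.range_ι]
      exact (hrange z).1
    have h₂ : Set.range (ι ≫ b) ⊆ Set.range V.ι := by
      rintro _ ⟨z, rfl⟩
      rw [Scheme.Opens.range_ι]
      exact (hrange z).2
    let a' := IsOpenImmersion.lift V.ι (ι ≫ a) h₁ ≫ hV.isoSpec.hom
    let b' := IsOpenImmersion.lift V.ι (ι ≫ b) h₂ ≫ hV.isoSpec.hom
    have ha : a' ≫ hV.fromSpec = ι ≫ a := by
      simp only [a', IsAffineOpen.fromSpec, Category.assoc, Iso.hom_inv_id_assoc, IsOpenImmersion.lift_fac]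
    have hb : b' ≫ hV.fromSpec = ι ≫ b := by
      simp only [b', IsAffineOpen.fromSpec, Category.assoc, Iso.hom_inv_id_assoc, IsOpenImmersion.lift_fac]
    suffices hab : Spec.preimage a' = Spec.preimage b' by
      show ι ≫ a = ι ≫ b
      rw [← ha, ← hb, ← Spec.map_preimage a', ← Spec.map_preimage b', hab]
    refine CommRingCat.hom_ext (RingHom.ext fun r => sub_eq_zero.mp ?_)
    set d := (Spec.preimage a').hom r - (Spec.preimage b').hom r with hd
    refine Module.eq_zero_of_localization_maximal (R := Localization.Away f) (fun P _ => Localization.AtPrime P)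
      (fun P _ => Algebra.linearMap _ _) d fun P hP => ?_
    haveI : IsNoetherianRing (Localization.Away f) := IsLocalization.isNoetherianRing (Submonoid.powers f) _ inferInstance
    have hmem : ∀ n : ℕ, d ∈ P ^ n := by
      intro n
      rcases Nat.eq_zero_or_pos n with rfl | hn
      · simp
      let m' := P.comap (algebraMap B (Localization.Away f))
      haveI : m'.IsMaximal :=
        ((IsLocalization.isMaximal_iff_isMaximal_disjoint (Localization.Away f) f P).mp hP).1
      let π : B ⧸ m' ^ n →+* Localization.Away f ⧸ P ^ n :=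
        Ideal.quotientMap (P ^ n) (algebraMap B (Localization.Away f)) (Ideal.map_le_iff_le_comap.mp
          (by rw [Ideal.map_pow]; exact Ideal.pow_right_mono (Ideal.map_comap_le) n))
      have e : Spec.map (CommRingCat.ofHom (Ideal.Quotient.mk (P ^ n))) ≫ ι =
          Spec.map (CommRingCat.ofHom π) ≫ Spec.map (CommRingCat.ofHom (Ideal.Quotient.mk (m' ^ n))) := by
        rw [← Spec.map_comp, ← Spec.map_comp]
        rfl
      have e1 : Spec.map (CommRingCat.ofHom (Ideal.Quotient.mk (P ^ n))) ≫ a' ≫ hV.fromSpec =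
          Spec.map (CommRingCat.ofHom (Ideal.Quotient.mk (P ^ n))) ≫ b' ≫ hV.fromSpec := by
        rw [ha, hb, reassoc_of% e, reassoc_of% e, h m' n hn]
      simp only [← Category.assoc] at e1
      rw [cancel_mono] at e1
      have e2 := congrArg Spec.preimage e1
      simp only [Spec.preimage_comp, Spec.preimage_map] at e2
      have e3 := ConcreteCategory.congr_hom e2 r
      exact (Ideal.Quotient.mk_eq_mk_iff_sub_mem _ _).mp e3
    refine (Submodule.mem_bot (R := Localization.AtPrime P)).mp ?_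
    rw [← Ideal.iInf_pow_eq_bot_of_isLocalRing _ (IsLocalRing.maximalIdeal.isMaximal (Localization.AtPrime P)).ne_top]
    refine (Submodule.mem_iInf _).mpr fun n => ?_
    rw [← Localization.AtPrime.map_eq_maximalIdeal, ← Ideal.map_pow]
    exact Ideal.mem_map_of_mem _ (hmem n)
  let S := {f : B | Spec.map (CommRingCat.ofHom (algebraMap B (Localization.Away f))) ≫ a =
        Spec.map (CommRingCat.ofHom (algebraMap B (Localization.Away f))) ≫ b}
  have hspan : Ideal.span (Set.range (fun f : S => (f.1 : B))) = ⊤ := by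
    by_contra hne
    obtain ⟨m, hm, hle⟩ := Ideal.exists_le_maximal _ hne
    obtain ⟨f, hfm, hf⟩ := key m hm
    exact hfm (hle (Ideal.subset_span ⟨⟨f, hf⟩, rfl⟩))
  exact (Scheme.affineOpenCoverOfSpanRangeEqTop (R := CommRingCat.of B) _ hspan).openCover.hom_ext _ _
    fun f => f.2

end Groth.Agent.ModM0
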